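import Cfsg.Agent.E7P.Rsl.Std
import Cfsg.Agent.E7P.Top.Top
import Cfsg.Agent.E7P.Ag.Ri

/-!
# S5932: END2, the centres of the factors of the algebraic overgroup are central (helper32)

`Sit.en2t_core` : some `Ξ i (-1)` not central is impossible.
-/

set_option autoImplicit false
set_option maxRecDepth 100000

namespace Cfsg.Agent.E7P

open Cfsg Cfsg.Lie Matrix Module
open Cfsg.Agent.H943.E7V.Block (D1 rho)
open Cfsg.Agent.R2.T1 Cfsg.Agent.E7P.Kf Cfsg.Agent.E7P.Rsl
open Cfsg.Agent.H943.SL2Rel (u w h)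

universe u v

theorem en2t_seven {n : ℕ} {l : Fin n → Fin 7 → ℤ} {c : Fin n → Fin 7 → ℤ} (h1 : ∀ i, lev (l i) (c i) = 2)
    (h2 : ∀ i j, j ≠ i → lev (l j) (c i) = 0) (h3 : ∀ ν, (∀ i, lev ν (c i) = 0) → ν = 0) : n = 7 := by
  refine le_antisymm ?_ ?_
  · have h4 : LinearIndependent ℤ l := Fintype.linearIndependent_iff.2 fun a ha i => by
      have h5 := congrArg (fun ν => lev ν (c i)) ha
      simp only [sum_lev] at h5
      have h6 : ∀ j, lev (a j • l j) (c i) = a j * lev (l j) (c i) := fun j => by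
        simp only [lev, Pi.smul_apply, smul_eq_mul, Finset.mul_sum, mul_left_comm]
      rw [Finset.sum_eq_single i (fun j _ hj => by rw [h6, h2 i j hj, mul_zero]) (by simp), h6, h1] at h5
      simpa [lev] using h5
    simpa using h4.fintype_card_le_finrank
  · let φ : (Fin 7 → ℤ) →ₗ[ℤ] (Fin n → ℤ) :=
      { toFun := fun ν i => lev ν (c i)
        map_add' := fun ν μ => funext fun i => add_lev _ _ _
        map_smul' := fun a ν => funext fun i => by
          simp only [lev, Pi.smul_apply, smul_eq_mul, Finset.mul_sum, mul_left_comm, RingHom.id_apply] }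
    simpa using LinearMap.finrank_le_finrank_of_injective (f := φ)
      ((injective_iff_map_eq_zero φ).2 fun ν hν => h3 ν fun i => congrFun hν i)

namespace Sit

variable {p a b : ℕ} {F : Type u} {K : Type v} {k : Type u} [Field F] [Fintype F] [Field K] [Fintype K] [Field k]
  (S : Sit p a b F K k)

theorem en2t_core (hp : p ≠ 2) (A : S.Alg) (X : Fin A.n → Std k) (hX : ∀ i x, (X i).Ξ x = A.g⁻¹ * A.Ξ i x * A.g)
    (cent : ∀ ν : Fin 7 → ℤ, (∀ i (r : Fin chevE7.nroots), (X i).e (Sum.inr r) ≠ 0 → lev ν (rc r) = 0) →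
      (∀ i (r : Fin chevE7.nroots), (X i).f (Sum.inr r) ≠ 0 → lev ν (rc r) = 0) → ν = 0)
    (hC : ∃ i, A.Ξ i (h (-1)) ∉ Subgroup.center (Gh k)) : False := by
  classical
  have := S.closed
  have := S.chark
  have hA : ∀ i x, A.Ξ i x = A.g * (X i).Ξ x * A.g⁻¹ := fun i x => by rw [hX]; group
  have hcm : ∀ i j, j ≠ i → ∀ x y, (X j).Ξ y * (X i).Ξ x = (X i).Ξ x * (X j).Ξ y := fun i j hij x y => by
    rw [hX, hX, show A.g⁻¹ * A.Ξ j y * A.g * (A.g⁻¹ * A.Ξ i x * A.g) = A.g⁻¹ * (A.Ξ j y * A.Ξ i x) * A.g by group,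
      A.comm j i hij]
    group
  let C : Subgroup (Gh k) := Subgroup.closure {c | ∃ i, c = A.Ξ i (h (-1))}
  let L : Fin 7 → ℤ := ∑ i, (X i).l
  have hT : ∀ c ∈ C, ∃ t, c = A.g * Phi k t * A.g⁻¹ ∧
      ∀ r : Fin chevE7.nroots, (∀ j, Even (lev (X j).l (rc r))) → ch (rc r) t = 1 := by
    intro c hc
    induction hc using Subgroup.closure_induction with
    | mem c hc =>
      obtain ⟨i, rfl⟩ := hc
      exact ⟨_, by rw [hA, (X i).tor], fun r hr => by rw [ch_lam]; exact (hr i).neg_one_zpow⟩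
    | one => exact ⟨1, by rw [map_one, mul_one, mul_inv_cancel], fun r _ => Finset.prod_eq_one fun _ _ => one_zpow _⟩
    | mul c d _ _ hc hd =>
      obtain ⟨s, rfl, hs⟩ := hc
      obtain ⟨t, rfl, ht⟩ := hd
      exact ⟨s * t, by rw [map_mul]; group, fun r hr =>
        ((Finset.prod_congr rfl fun _ _ => mul_zpow _ _ _).trans Finset.prod_mul_distrib).trans
          (show ch (rc r) s * ch (rc r) t = 1 by rw [hs r hr, ht r hr, mul_one])⟩
    | inv c _ hc =>
      obtain ⟨s, rfl, hs⟩ := hc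
      exact ⟨s⁻¹, by rw [map_inv]; group, fun r hr => by rw [ch_inv, hs r hr, inv_one]⟩
  have hΨ : ∀ r : Fin chevE7.nroots, (∀ j, Even (lev (X j).l (rc r))) → Psi C A.g r := fun r hr t ht => by
    obtain ⟨s, e, hs⟩ := hT _ ht
    have h1 := congrArg (fun y => adM k y (Sum.inr r) (Sum.inr r)) (mul_left_cancel (mul_right_cancel e))
    simp only [wrep_L.tor, diagonal_apply_eq] at h1
    exact (Units.ext h1).trans (hs r hr)
  have hm1 : ∀ γ : SpecialLinearGroup (Fin 2) k, γ * h (-1) = h (-1) * γ := fun γ => by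
    rw [h_neg_one, mul_neg, neg_mul, mul_one, one_mul]
  obtain ⟨d, hd, h1, h2⟩ := S.top hp C A.g (lE L) (fun c hc => (hT c hc).imp fun _ h => h.1)
    (fun c hc => (Subgroup.closure_le (C.comap S.σ)).2 (by
      rintro _ ⟨i, rfl⟩
      refine Subgroup.subset_closure ⟨A.π i, ?_⟩
      rw [A.frob, Rsl.map_h]
      congr 2
      exact Units.ext (by simp)) hc)
    (fun m hm c hc => (Subgroup.closure_le (C.comap (MulAut.conj m).toMonoidHom)).2 (by
      rintro _ ⟨i, rfl⟩
      obtain ⟨ρ, hρ⟩ := A.norm m hm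
      obtain ⟨γ, hγ⟩ := hρ i
      refine Subgroup.subset_closure ⟨ρ i, (hγ _).trans ?_⟩
      rw [hm1, mul_inv_cancel_right]) hc)
    (fun c hc => S.mem_CA.1 ((Subgroup.closure_le S.CA).2 (by
      rintro _ ⟨i, rfl⟩
      refine S.mem_CA.2 fun x => ?_
      rw [A.res]
      refine (Commute.list_prod_left _ _ fun y hy => ?_).eq
      obtain ⟨j, rfl⟩ := List.mem_ofFn.1 hy
      by_cases hij : j = i
      · rw [hij, Commute, SemiconjBy, ← map_mul, ← map_mul, hm1]
      · exact A.comm j i hij _ _) hc))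
    (hC.elim fun i hi => ⟨_, Subgroup.subset_closure ⟨i, rfl⟩, hi⟩)
    (mem_Pl_of_tri fun x y hxy => by
      have h3 : ∀ i, lev (X (A.π i)).l (wc x) = lev (X i).l (wc y) := fun i => by
        refine (Rep2.wt_of_tw (A := (X (A.π i)).V) (A' := (X i).V) (d := 0) (fun z => ?_) hxy).trans (add_zero _)
        obtain ⟨z', hz'⟩ := (ri_bij S.prime S.alg S.s).2 (z : k)
        have h4 : z' ≠ 0 := fun e => z.ne_zero (by rw [← hz', e, map_zero])
        have h5 : Units.map (S.s : k →* k) (Units.mk0 z' h4) = z := Units.ext hz'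
        have h6 := A.frob i (h (Units.mk0 z' h4))
        rw [Rsl.map_h, h5, hA, hA, (X i).tor] at h6
        have h7 := emb_co S.s A.g (X i).l (Units.mk0 z' h4)
        rw [h5, Kf.co_apply, Kf.co_apply, ← (X i).tor z] at h7
        rw [zpow_zero, Units.val_one, one_smul, Std.V_R, Std.V_R, ← map_mul, ← map_mul]
        congr 1
        have h8 : S.σ A.g * (X i).Ξ (h z) * (S.σ A.g)⁻¹ = A.g * (X (A.π i)).Ξ (h z) * A.g⁻¹ := h7.symm.trans h6
        rw [mul_assoc A.g⁻¹, mul_inv_eq_iff_eq_mul.1 h8]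
        group
      rw [wv, wv, ← lev_cast, ← lev_cast, sum_lev, sum_lev, ← Equiv.sum_comp A.π fun i => lev (X i).l (wc x),
        Finset.sum_congr rfl fun i _ => h3 i])
    (fun c => by
      rw [A.res, show ∀ y, A.g⁻¹ * y * A.g = (MulAut.conj A.g⁻¹).toMonoidHom y from fun y => by simp, map_list_prod]
      refine list_prod_mem fun y hy => ?_
      obtain ⟨z, hz, rfl⟩ := List.mem_map.1 hy
      obtain ⟨j, rfl⟩ := List.mem_ofFn.1 hz
      show A.g⁻¹ * _ * A.g⁻¹⁻¹ ∈ _
      rw [inv_inv, ← hX, Rsl.map_h, (X j).tor]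
      exact Phi_mem_Pl _ _)
    (fun t => by
      rw [A.res, show ∀ y, A.g⁻¹ * y * A.g = (MulAut.conj A.g⁻¹).toMonoidHom y from fun y => by simp, map_list_prod]
      refine list_prod_mem fun y hy => ?_
      obtain ⟨z, hz, rfl⟩ := List.mem_map.1 hy
      obtain ⟨i, rfl⟩ := List.mem_ofFn.1 hz
      show A.g⁻¹ * _ * A.g⁻¹⁻¹ ∈ _
      rw [inv_inv, ← hX, Rsl.map_u]
      refine (X i).u_mem_Ul (fun m hm x y hxy => ?_) _
      rw [wv, wv, ← lev_cast, ← lev_cast, sum_lev, sum_lev, Int.cast_lt]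
      refine Finset.sum_lt_sum (fun j _ => ?_) ⟨i, Finset.mem_univ i, ?_⟩
      · by_cases hij : j = i
        · have h3 := Rep2.D_wt hxy
          rw [Std.V_n, Std.V_n] at h3
          rw [hij]
          omega
        · exact (Rep2.wt_of_comm (A := (X j).V) (fun z => (Std.tw_V_D (fun x => hcm i j hij x _) m).symm) hxy).ge
      · have h3 := Rep2.D_wt hxy
        rw [Std.V_n, Std.V_n] at h3
        omega)
  -- the roots in the supports
  let Q : Fin A.n → ℕ → Prop := fun i r => lev (X i).l (rc r) = 2 ∧ ∀ j, j ≠ i → lev (X j).l (rc r) = 0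
  have he : ∀ i (r : Fin chevE7.nroots), (X i).e (Sum.inr r) ≠ 0 → Q i r := fun i r hr =>
    ⟨(X i).e_mem _ hr, fun j hj => Rep2.mem_Wt_of_h (A := (X j).L) (j := 0) (fun z => by
      rw [zpow_zero, Units.val_one, one_smul]
      exact Std.tw_e fun x => hcm i j hj x _) _ hr⟩
  have hf : ∀ i (r : Fin chevE7.nroots), (X i).f (Sum.inr r) ≠ 0 → Q i (125 - r) := fun i r hr => by
    refine ⟨?_, fun j hj => ?_⟩
    · rw [rc_neg r.2, lev_neg, show lev (X i).l (rc r) = -2 from (X i).f_mem _ hr, neg_neg]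
    · rw [rc_neg r.2, lev_neg, show lev (X j).l (rc r) = 0 from Rep2.mem_Wt_of_h (A := (X j).L) (j := 0) (fun z => by
        rw [zpow_zero, Units.val_one, one_smul]
        exact Std.tw_f fun x => hcm i j hj x _) _ hr, neg_zero]
  have hQ : ∀ i r, r < 126 → Q i r → Psi C A.g r ∧ bf (lE L) (rv r) = 2 := fun i r hr hq => by
    refine ⟨hΨ ⟨r, hr⟩ fun j => ?_, ?_⟩
    · by_cases hij : j = i
      · rw [hij, show lev (X i).l (rc r) = 2 from hq.1]
        exact even_two
      · rw [show lev (X j).l (rc r) = 0 from hq.2 j hij]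
        exact Even.zero
    · rw [rv, ← lev_cast, sum_lev, Finset.sum_eq_single i (fun j _ hj => hq.2 j hj) (by simp), hq.1]
      norm_num
  choose ρ hρ _ using fun i => (X i).exists_root
  have hd2 : d = 2 := by
    have h3 := hQ _ _ (ρ ⟨0, A.npos⟩).2 (he _ _ (hρ _))
    rcases h1 _ (ρ ⟨0, A.npos⟩).2 h3.1 with h4 | h4 | h4 <;> linarith [h3.2]
  rw [hd2] at h2
  have h3 := Nat.eq_of_mul_eq_mul_left S.hb ((mul_comm _ _).trans (A.ab.symm.trans h2))
  have hinj : ∀ i j r, Q i r → Q j r → i = j := fun i j r hi hj => by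
    by_contra hij
    have h4 := hj.2 i hij
    rw [hi.1] at h4
    exact two_ne_zero h4
  have h4 : ∀ i r, r < 126 → Q i r → r = ρ i := fun i r hr hq => by
    have h5 := Finset.surjOn_of_injOn_of_card_le (s := Finset.univ) (fun i => (ρ i : ℕ))
      (t := (Finset.range 126).filter fun r => Psi C A.g r ∧ bf (lE L) (rv r) = 2)
      (fun i _ => Finset.mem_coe.2 (Finset.mem_filter.2 ⟨Finset.mem_range.2 (ρ i).2, hQ i _ (ρ i).2 (he i _ (hρ i))⟩))
      (fun i _ j _ e => hinj i j _ (he i _ (hρ i)) (by rw [show (ρ i : ℕ) = ρ j from e]; exact he j _ (hρ j)))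
      (by rw [Finset.card_univ, Fintype.card_fin]; exact h3.ge)
    obtain ⟨j, -, e⟩ := h5 (Finset.mem_coe.2 (Finset.mem_filter.2 ⟨Finset.mem_range.2 hr, hQ i r hr hq⟩))
    rw [hinj i j r hq (by rw [← show (ρ j : ℕ) = r from e]; exact he j _ (hρ j))]
    exact e.symm
  refine S.ne7 (A.ab.trans (congrArg (· * b) (en2t_seven (l := fun i => (X i).l) (c := fun i => rc (ρ i))
    (fun i => (he i _ (hρ i)).1) (fun i => (he i _ (hρ i)).2) fun ν hν => cent ν (fun i r hr => ?_) fun i r hr => ?_)))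
  · rw [h4 i r r.2 (he i r hr)]
    exact hν i
  · have h5 := hν i
    rw [← h4 i (125 - r) (by omega) (hf i r hr), rc_neg r.2, lev_neg, neg_eq_zero] at h5
    exact h5

end Sit

end Cfsg.Agent.E7P
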