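import Cfsg.Agent.E7P.En2.Root
import Cfsg.Agent.E7P.En2.Top
import Cfsg.Agent.E7P.Rsl.Alg

/-!
# S5932, END2: the algebraic overgroup has only one factor (helper61)
-/

set_option autoImplicit false
set_option maxRecDepth 100000
set_option maxHeartbeats 400000

namespace Cfsg.Agent.E7P.Sit

open Cfsg Cfsg.Lie Matrix
open Cfsg.Agent.R2.T1 Cfsg.Agent.E7P.Kf Cfsg.Agent.E7P.Rsl
open Cfsg.Agent.H943.SL2Rel (u w h)

universe u v

variable {p a b : ℕ} {F : Type u} {K : Type v} {k : Type u} [Field F] [Fintype F] [Field K] [Fintype K] [Field k]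
  (S : Sit p a b F K k)

theorem en2_ev (hp : p ≠ 2) (A : S.Alg) : haveI := S.closed; En2.Ev (A.fam hp) := by
  have := S.closed
  intro i r hr
  have h1 : A.Ξ i (h (-1)) ∈ Subgroup.center (Gh k) := by
    by_contra h0
    exact S.en2t_core hp A (A.X hp) (A.X_Ξ hp) (fun _ => (A.fam hp).cent0) ⟨i, h0⟩
  have h2 : Phi k (lam (A.l i) (-1)) ∈ Subgroup.center (Gh k) := by
    rw [← A.X_l hp, ← (A.X hp i).tor, A.X_Ξ, mul_assoc, ← Subgroup.mem_center_iff.1 h1, inv_mul_cancel_left]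
    exact h1
  have h3 : ch (rc r) (lam (A.l i) (-1 : kˣ)) = 1 := (isPhi.mem_iff _).1 h2 r hr
  rw [ch_lam] at h3
  by_contra h4
  have h5 := (Odd.neg_one_zpow (Int.odd_iff.2 (Int.emod_two_ne_zero.1 h4))).symm.trans h3
  have h6 : (-1 : k) = 1 := congrArg Units.val h5
  exact S.nt_two hp (by linear_combination -h6)

/-- **END2** -/
theorem end2 (hp : p ≠ 2) (A : S.Alg) (hn : 2 ≤ A.n) : False := by
  have := S.closed
  exact En2.en2 (A.fam hp) (S.en2_ev hp A) (i := ⟨0, by omega⟩) (j := ⟨1, by omega⟩) fun e => zero_ne_one (Fin.mk.inj e)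

end Cfsg.Agent.E7P.Sit
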