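import Cfsg.Agent.E7P.Rsl.Fam

/-!
# S5932, END2: the tables (helper61)

* `WT`, `CT`, `GT` : the labels of the weights, of the roots and of the weights of the Lie algebra;
* `Tb` : a table for a module; `zf` : an isolated weight, `Tb.zf_false`.
-/

set_option autoImplicit false
set_option maxRecDepth 100000
set_option maxHeartbeats 400000

namespace Cfsg.Agent.E7P.En2

open Cfsg Cfsg.Lie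
open Cfsg.Agent.R2.T1 Cfsg.Agent.E7P.Kf Cfsg.Agent.E7P.Rsl
open Cfsg.Agent.R2.PX (W56)

/-- the labels of the weights -/
def WT : List (List ℤ) := [[0, 0, 0, 0, 0, 0, -1], [0, 0, 0, 0, 0, -1, 1], [0, 0, 0, 0, -1, 1, 0], [0, 0, 0, -1, 1, 0, 0],
  [0, -1, -1, 1, 0, 0, 0], [-1, -1, 1, 0, 0, 0, 0], [0, 1, -1, 0, 0, 0, 0], [-1, 1, 1, -1, 0, 0, 0],
  [-1, 0, 0, 1, -1, 0, 0], [-1, 0, 0, 0, 1, -1, 0], [-1, 0, 0, 0, 0, 1, -1], [-1, 0, 0, 0, 0, 0, 1],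
  [1, -1, 0, 0, 0, 0, 0], [1, 1, 0, -1, 0, 0, 0], [1, 0, -1, 1, -1, 0, 0], [1, 0, -1, 0, 1, -1, 0],
  [1, 0, -1, 0, 0, 1, -1], [1, 0, -1, 0, 0, 0, 1], [0, 0, 1, 0, -1, 0, 0], [0, 0, 1, -1, 1, -1, 0],
  [0, 0, 1, -1, 0, 1, -1], [0, 0, 1, -1, 0, 0, 1], [0, -1, 0, 1, 0, -1, 0], [0, -1, 0, 1, -1, 1, -1],
  [0, -1, 0, 1, -1, 0, 1], [0, -1, 0, 0, 1, 0, -1], [0, -1, 0, 0, 1, -1, 1], [0, -1, 0, 0, 0, 1, 0],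
  [0, 1, 0, 0, 0, -1, 0], [0, 1, 0, 0, -1, 1, -1], [0, 1, 0, 0, -1, 0, 1], [0, 1, 0, -1, 1, 0, -1],
  [0, 1, 0, -1, 1, -1, 1], [0, 1, 0, -1, 0, 1, 0], [0, 0, -1, 1, 0, 0, -1], [0, 0, -1, 1, 0, -1, 1],
  [0, 0, -1, 1, -1, 1, 0], [0, 0, -1, 0, 1, 0, 0], [-1, 0, 1, 0, 0, 0, -1], [-1, 0, 1, 0, 0, -1, 1],
  [-1, 0, 1, 0, -1, 1, 0], [-1, 0, 1, -1, 1, 0, 0], [-1, -1, 0, 1, 0, 0, 0], [-1, 1, 0, 0, 0, 0, 0],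
  [1, 0, 0, 0, 0, 0, -1], [1, 0, 0, 0, 0, -1, 1], [1, 0, 0, 0, -1, 1, 0], [1, 0, 0, -1, 1, 0, 0],
  [1, -1, -1, 1, 0, 0, 0], [0, -1, 1, 0, 0, 0, 0], [1, 1, -1, 0, 0, 0, 0], [0, 1, 1, -1, 0, 0, 0],
  [0, 0, 0, 1, -1, 0, 0], [0, 0, 0, 0, 1, -1, 0], [0, 0, 0, 0, 0, 1, -1], [0, 0, 0, 0, 0, 0, 1]]

/-- the labels of the roots -/
def CT : List (List ℤ) := [[-1, 0, 0, 0, 0, 0, 0], [1, 0, -1, 0, 0, 0, 0], [0, 0, 1, -1, 0, 0, 0], [0, -1, 0, 1, -1, 0, 0],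
  [0, -1, 0, 0, 1, -1, 0], [0, -1, 0, 0, 0, 1, -1], [0, -1, 0, 0, 0, 0, 1], [0, 1, 0, 0, -1, 0, 0],
  [0, 1, 0, -1, 1, -1, 0], [0, 1, 0, -1, 0, 1, -1], [0, 1, 0, -1, 0, 0, 1], [0, 0, -1, 1, 0, -1, 0],
  [0, 0, -1, 1, -1, 1, -1], [0, 0, -1, 1, -1, 0, 1], [0, 0, -1, 0, 1, 0, -1], [0, 0, -1, 0, 1, -1, 1],
  [0, 0, -1, 0, 0, 1, 0], [-1, 0, 1, 0, 0, -1, 0], [-1, 0, 1, 0, -1, 1, -1], [-1, 0, 1, 0, -1, 0, 1],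
  [-1, 0, 1, -1, 1, 0, -1], [-1, 0, 1, -1, 1, -1, 1], [-1, 0, 1, -1, 0, 1, 0], [-1, -1, 0, 1, 0, 0, -1],
  [-1, -1, 0, 1, 0, -1, 1], [-1, -1, 0, 1, -1, 1, 0], [-1, -1, 0, 0, 1, 0, 0], [-1, 1, 0, 0, 0, 0, -1],
  [-1, 1, 0, 0, 0, -1, 1], [-1, 1, 0, 0, -1, 1, 0], [-1, 1, 0, -1, 1, 0, 0], [-1, 0, -1, 1, 0, 0, 0],
  [-2, 0, 1, 0, 0, 0, 0], [1, 0, 0, 0, 0, -1, 0], [1, 0, 0, 0, -1, 1, -1], [1, 0, 0, 0, -1, 0, 1],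
  [1, 0, 0, -1, 1, 0, -1], [1, 0, 0, -1, 1, -1, 1], [1, 0, 0, -1, 0, 1, 0], [1, -1, -1, 1, 0, 0, -1],
  [1, -1, -1, 1, 0, -1, 1], [1, -1, -1, 1, -1, 1, 0], [1, -1, -1, 0, 1, 0, 0], [0, -1, 1, 0, 0, 0, -1],
  [0, -1, 1, 0, 0, -1, 1], [0, -1, 1, 0, -1, 1, 0], [0, -1, 1, -1, 1, 0, 0], [0, -2, 0, 1, 0, 0, 0],
  [1, 1, -1, 0, 0, 0, -1], [1, 1, -1, 0, 0, -1, 1], [1, 1, -1, 0, -1, 1, 0], [1, 1, -1, -1, 1, 0, 0],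
  [1, 0, -2, 1, 0, 0, 0], [0, 1, 1, -1, 0, 0, -1], [0, 1, 1, -1, 0, -1, 1], [0, 1, 1, -1, -1, 1, 0],
  [0, 1, 1, -2, 1, 0, 0], [0, 0, 0, 1, -1, 0, -1], [0, 0, 0, 1, -1, -1, 1], [0, 0, 0, 1, -2, 1, 0],
  [0, 0, 0, 0, 1, -1, -1], [0, 0, 0, 0, 1, -2, 1], [0, 0, 0, 0, 0, 1, -2], [0, 0, 0, 0, 0, -1, 2],
  [0, 0, 0, 0, -1, 2, -1], [0, 0, 0, 0, -1, 1, 1], [0, 0, 0, -1, 2, -1, 0], [0, 0, 0, -1, 1, 1, -1],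
  [0, 0, 0, -1, 1, 0, 1], [0, -1, -1, 2, -1, 0, 0], [0, -1, -1, 1, 1, -1, 0], [0, -1, -1, 1, 0, 1, -1],
  [0, -1, -1, 1, 0, 0, 1], [-1, 0, 2, -1, 0, 0, 0], [-1, -1, 1, 1, -1, 0, 0], [-1, -1, 1, 0, 1, -1, 0],
  [-1, -1, 1, 0, 0, 1, -1], [-1, -1, 1, 0, 0, 0, 1], [0, 2, 0, -1, 0, 0, 0], [0, 1, -1, 1, -1, 0, 0],
  [0, 1, -1, 0, 1, -1, 0], [0, 1, -1, 0, 0, 1, -1], [0, 1, -1, 0, 0, 0, 1], [-1, 1, 1, 0, -1, 0, 0],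
  [-1, 1, 1, -1, 1, -1, 0], [-1, 1, 1, -1, 0, 1, -1], [-1, 1, 1, -1, 0, 0, 1], [-1, 0, 0, 1, 0, -1, 0],
  [-1, 0, 0, 1, -1, 1, -1], [-1, 0, 0, 1, -1, 0, 1], [-1, 0, 0, 0, 1, 0, -1], [-1, 0, 0, 0, 1, -1, 1],
  [-1, 0, 0, 0, 0, 1, 0], [2, 0, -1, 0, 0, 0, 0], [1, 0, 1, -1, 0, 0, 0], [1, -1, 0, 1, -1, 0, 0],
  [1, -1, 0, 0, 1, -1, 0], [1, -1, 0, 0, 0, 1, -1], [1, -1, 0, 0, 0, 0, 1], [1, 1, 0, 0, -1, 0, 0],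
  [1, 1, 0, -1, 1, -1, 0], [1, 1, 0, -1, 0, 1, -1], [1, 1, 0, -1, 0, 0, 1], [1, 0, -1, 1, 0, -1, 0],
  [1, 0, -1, 1, -1, 1, -1], [1, 0, -1, 1, -1, 0, 1], [1, 0, -1, 0, 1, 0, -1], [1, 0, -1, 0, 1, -1, 1],
  [1, 0, -1, 0, 0, 1, 0], [0, 0, 1, 0, 0, -1, 0], [0, 0, 1, 0, -1, 1, -1], [0, 0, 1, 0, -1, 0, 1],
  [0, 0, 1, -1, 1, 0, -1], [0, 0, 1, -1, 1, -1, 1], [0, 0, 1, -1, 0, 1, 0], [0, -1, 0, 1, 0, 0, -1],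
  [0, -1, 0, 1, 0, -1, 1], [0, -1, 0, 1, -1, 1, 0], [0, -1, 0, 0, 1, 0, 0], [0, 1, 0, 0, 0, 0, -1],
  [0, 1, 0, 0, 0, -1, 1], [0, 1, 0, 0, -1, 1, 0], [0, 1, 0, -1, 1, 0, 0], [0, 0, -1, 1, 0, 0, 0],
  [-1, 0, 1, 0, 0, 0, 0], [1, 0, 0, 0, 0, 0, 0]]

theorem WT_eq : WT = W56.map fun s => (List.range 7).map fun i => chevE8.cartan i s := by decide +kernel

theorem CT_eq : CT = (List.range 126).map fun r => (List.range 7).map fun i => chevE7.cartan i r := by decide +kernel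

/-- the labels of the weights of the Lie algebra -/
def GT : List (List ℤ) := [0, 0, 0, 0, 0, 0, 0] :: CT

/-- the list of the coordinates -/
def lst (l : Fin 7 → ℤ) : List ℤ := [l 0, l 1, l 2, l 3, l 4, l 5, l 6]

theorem lst_inj {l m : Fin 7 → ℤ} (e : lst l = lst m) : l = m := by
  simp only [lst, List.cons.injEq, and_true] at e
  funext i
  fin_cases i <;> simp [e]

theorem mem_WT {x : List ℤ} : x ∈ WT ↔ ∃ s, lst (wc s) = x := by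
  rw [WT_eq, List.mem_map]
  refine ⟨fun ⟨s, hs, e⟩ => ⟨⟨⟨s, (R2.PX.W56_spec s hs).1⟩, (R2.PX.W56_spec s hs).2⟩, e⟩,
    fun ⟨s, e⟩ => ⟨nn s, R2.PX.nn_mem s, e⟩⟩

theorem mem_CT {x : List ℤ} : x ∈ CT ↔ ∃ r < 126, lst (rc r) = x := by
  rw [CT_eq, List.mem_map]
  exact ⟨fun ⟨r, hr, e⟩ => ⟨r, List.mem_range.1 hr, e⟩, fun ⟨r, hr, e⟩ => ⟨r, List.mem_range.2 hr, e⟩⟩

theorem mem_GT {x : List ℤ} : x ∈ GT ↔ ∃ a, lst (ac a) = x := by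
  rw [GT, List.mem_cons, mem_CT]
  refine ⟨?_, ?_⟩
  · rintro (rfl | ⟨r, hr, rfl⟩)
    · exact ⟨Sum.inl ⟨0, by decide⟩, rfl⟩
    · exact ⟨Sum.inr ⟨r, hr⟩, rfl⟩
  · rintro ⟨a | r, rfl⟩
    · exact Or.inl rfl
    · exact Or.inr ⟨r, r.2, rfl⟩

theorem sum_WT {M : Type*} [AddCommMonoid M] (f : List ℤ → M) : ∑ s, f (lst (wc s)) = (WT.map f).sum := by
  rw [WT_eq, List.map_map]
  exact R2.PX.sumD1 (f ∘ fun s => (List.range 7).map fun i => chevE8.cartan i s)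

end Cfsg.Agent.E7P.En2
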